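import Groth.Agent.Lib.IdealMul9.Ops
import Groth.Agent.Lib.FunMor20.KernelAffine
import Groth.Agent.Lib.ModDesc.Basic
import Groth.Agent.Lib.QCoh.Abelian
import Groth.Agent.Lib.CohSS9.Basic
import Groth.Prelude.Def_Dual3

/-!
# The cohomology of the Deligne system is the `I`-adic system of the cohomology
-/

set_option autoImplicit false
set_option maxHeartbeats 800000
set_option linter.style.haveILetI false
set_option backward.isDefEq.respectTransparency false

universe u

open CategoryTheory CategoryTheory.Limits AlgebraicGeometry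

noncomputable section

namespace GrothLib.DeligneLift22.AR

open IdealMul9

variable {X : Scheme.{u}} [AlgebraicGeometry.IsNoetherian X] (I : X.IdealSheafData)

/-- Artin–Rees as a factorisation property. -/
theorem exists_factor_AR {F G : X.Modules} (hF : Coh.IsCoh F) (hG : G.IsQuasicoherent) (ι : G ⟶ F) [Mono ι] :
    ∃ c : ℕ, ∀ n : ℕ, c ≤ n → ∀ (W : X.Modules) (h : W ⟶ G) (k : W ⟶ (Dual3.idealMul (I ^ n)).obj F),
      h ≫ ι = k ≫ Dual3.idealMulι (I ^ n) F →
        ∃ l : W ⟶ (Dual3.idealMul (I ^ (n - c))).obj G, l ≫ Dual3.idealMulι (I ^ (n - c)) G = h := by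
  obtain ⟨c, hc⟩ := exists_artinRees hF hG ι I
  refine ⟨c, fun n hn W h k hk => ?_⟩
  let S := Subobject.mk (Dual3.idealMulι (I ^ c) F) ⊓ Subobject.mk ι
  have hfac : (Subobject.mk (Dual3.idealMulι (I ^ n) F) ⊓ Subobject.mk ι).Factors (h ≫ ι) :=
    (Subobject.inf_factors _).2 ⟨(Subobject.mk_factors_iff _ _).2 ⟨k, hk.symm⟩,
      (Subobject.mk_factors_iff _ _).2 ⟨h, rfl⟩⟩
  rw [← hc n hn] at hfac
  obtain ⟨l, hl⟩ := (Subobject.mk_factors_iff _ _).1 hfac
  refine ⟨l ≫ (Dual3.idealMul (I ^ (n - c))).map (Subobject.ofLE S (Subobject.mk ι) inf_le_right ≫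
    (Subobject.underlyingIso ι).hom), ?_⟩
  rw [← cancel_mono ι, ← hl, Category.assoc, Category.assoc, Dual3.idealMul_map_ι_assoc, Category.assoc,
    Subobject.underlyingIso_hom_comp_eq_mk, Subobject.ofLE_arrow]
  rfl

omit [AlgebraicGeometry.IsNoetherian X] in
/-- `I · -` preserves epimorphisms of quasi-coherent modules. -/
theorem epi_idealMul_map (J : X.IdealSheafData) {A B : X.Modules} [hA : A.IsQuasicoherent] [hB : B.IsQuasicoherent]
    (f : A ⟶ B) [Epi f] : Epi ((Dual3.idealMul J).map f) := by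
  haveI := isQuasicoherent_idealMul J hA
  haveI := isQuasicoherent_idealMul J hB
  refine FunMor20.epi_of_surjective_cover _ (fun V : X.affineOpens => V.1) (fun V => V.2) (fun x => ?_) fun V b => ?_
  · obtain ⟨V, hV, hx, -⟩ := TopologicalSpace.Opens.isBasis_iff_nbhd.1 X.isBasis_affineOpens
      (TopologicalSpace.Opens.mem_top x)
    exact ⟨⟨V, hV⟩, hx⟩
  · have h1 : (Dual3.idealMulι J B).app V.1 b ∈ LinearMap.range
        (QCoh.appLinear ((Dual3.idealMul J).map f ≫ Dual3.idealMulι J B) V.1) := by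
      rw [Dual3.idealMul_map_ι, range_comp_app, range_idealMulι J hA V, Submodule.map_smul'', Submodule.map_top,
        LinearMap.range_eq_top.2 (show Function.Surjective (QCoh.appLinear f V.1) from
          GrothLib.ModDesc.app_surjective_of_epi f V.2)]
      exact app_idealMulι_mem J hB V b
    obtain ⟨a, ha⟩ := h1
    refine ⟨a, Cohom.app_injective_of_mono (Dual3.idealMulι J B) V.1 ?_⟩
    rw [← app_comp_apply]
    exact ha

theorem main (F : CochainComplex X.Modules ℤ) (hF : ∀ q : ℤ, Coh.IsCoh (F.X q)) (p : ℤ) :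
    ∃ (c : ℕ) (φ : ∀ n : ℕ, ((Dual3.deligne I n).obj F).homology p ⟶ (Dual3.idealMul (I ^ (n - c))).obj (F.homology p))
      (ψ : ∀ n : ℕ, (Dual3.idealMul (I ^ n)).obj (F.homology p) ⟶ ((Dual3.deligne I (n - c)).obj F).homology p),
      0 < c ∧
      (∀ n : ℕ, c ≤ n → φ n ≫ Dual3.idealMulι (I ^ (n - c)) (F.homology p) =
        HomologicalComplex.homologyMap (Dual3.deligneι I n F) p) ∧
      (∀ n : ℕ, c ≤ n → ψ n ≫ HomologicalComplex.homologyMap (Dual3.deligneι I (n - c) F) p =
        Dual3.idealMulι (I ^ n) (F.homology p)) ∧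
      (∀ n : ℕ, 2 * c ≤ n → (ψ n ≫ φ (n - c)) ≫ Dual3.idealMulι (I ^ (n - c - c)) (F.homology p) =
        Dual3.idealMulι (I ^ n) (F.homology p)) ∧
      ∀ (n : ℕ), 2 * c ≤ n → ∀ t : (Dual3.deligne I n).obj F ⟶ (Dual3.deligne I (n - c - c)).obj F,
        t ≫ Dual3.deligneι I (n - c - c) F = Dual3.deligneι I n F →
        φ n ≫ ψ (n - c) = HomologicalComplex.homologyMap t p := by
  haveI hq : ∀ q, (F.X q).IsQuasicoherent := fun q => (hF q).1
  let Z := F.cycles p
  let H := F.homology p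
  let π : Z ⟶ H := F.homologyπ p
  haveI : (F.sc p).X₁.IsQuasicoherent := hq _
  haveI : (F.sc p).X₂.IsQuasicoherent := hq _
  haveI : (F.sc p).X₃.IsQuasicoherent := hq _
  haveI hZ : Z.IsQuasicoherent := (SheafOfModules.isQuasicoherent X.ringCatSheaf).prop_of_iso
    (F.sc p).cyclesIsoKernel.symm (QCoh.isQuasicoherent_kernel (F.sc p).g)
  haveI hH : H.IsQuasicoherent := CohSS9.isQuasicoherent_homology (F.sc p)
  have hprev : (ComplexShape.up ℤ).prev p = p - 1 := by simp
  -- the boundaries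
  let B := kernel π
  haveI hB : B.IsQuasicoherent := QCoh.isQuasicoherent_kernel π
  let q : F.X (p - 1) ⟶ B := kernel.lift π (F.toCycles (p - 1) p) (F.toCycles_comp_homologyπ _ _)
  haveI : Epi q := (ShortComplex.mk _ _ (F.toCycles_comp_homologyπ (p - 1) p)).exact_iff_epi_kernel_lift.1
    (ShortComplex.exact_of_g_is_cokernel _ (F.homologyIsCokernel (p - 1) p hprev))
  haveI : Epi π := by dsimp [π]; infer_instance
  obtain ⟨c₁, hc₁⟩ := exists_factor_AR I (hF p) hZ (F.iCycles p)
  obtain ⟨c₂, hc₂⟩ := exists_factor_AR I (hF p) hB (kernel.ι π ≫ F.iCycles p)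
  let c := max c₁ c₂ + 1
  have hφ : ∀ n : ℕ, ∃ φ : ((Dual3.deligne I n).obj F).homology p ⟶ (Dual3.idealMul (I ^ (n - c))).obj H,
      c ≤ n → φ ≫ Dual3.idealMulι (I ^ (n - c)) H = HomologicalComplex.homologyMap (Dual3.deligneι I n F) p := by
    intro n
    by_cases hn : c ≤ n
    swap
    · exact ⟨0, fun h => absurd h hn⟩
    let Zn := ((Dual3.deligne I n).obj F).cycles p
    obtain ⟨l, hl⟩ := hc₁ n (by omega) Zn (HomologicalComplex.cyclesMap (Dual3.deligneι I n F) p)
      (((Dual3.deligne I n).obj F).iCycles p) (HomologicalComplex.cyclesMap_i _ _)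
    obtain ⟨e, he⟩ := exists_le (I ^ (n - c)) (I ^ (n - c₁)) (pow_le_pow I (by omega)) hZ
    let v : Zn ⟶ (Dual3.idealMul (I ^ (n - c))).obj H := (l ≫ e) ≫ (Dual3.idealMul (I ^ (n - c))).map π
    have hv : v ≫ Dual3.idealMulι (I ^ (n - c)) H =
        ((Dual3.deligne I n).obj F).homologyπ p ≫ HomologicalComplex.homologyMap (Dual3.deligneι I n F) p := by
      rw [HomologicalComplex.homologyπ_naturality]
      simp only [v, Category.assoc, Dual3.idealMul_map_ι]
      rw [reassoc_of% he, reassoc_of% hl]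
    have hcond : ((Dual3.deligne I n).obj F).toCycles (p - 1) p ≫ v = 0 := by
      rw [← cancel_mono (Dual3.idealMulι (I ^ (n - c)) H), Category.assoc, hv, ← Category.assoc,
        HomologicalComplex.toCycles_comp_homologyπ, zero_comp, zero_comp]
    obtain ⟨φ, hφ⟩ := CokernelCofork.IsColimit.desc' (((Dual3.deligne I n).obj F).homologyIsCokernel (p - 1) p hprev)
      v hcond
    refine ⟨φ, fun _ => ?_⟩
    rw [← cancel_epi (((Dual3.deligne I n).obj F).homologyπ p), ← Category.assoc]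
    exact (congrArg (· ≫ _) hφ).trans hv
  choose φ hφ using hφ
  have hψ : ∀ n : ℕ, ∃ ψ : (Dual3.idealMul (I ^ n)).obj H ⟶ ((Dual3.deligne I (n - c)).obj F).homology p,
      c ≤ n → ∃ g : (Dual3.idealMul (I ^ n)).obj Z ⟶ ((Dual3.deligne I (n - c)).obj F).cycles p,
        g ≫ ((Dual3.deligne I (n - c)).obj F).iCycles p ≫ Dual3.idealMulι (I ^ (n - c)) (F.X p) =
          Dual3.idealMulι (I ^ n) Z ≫ F.iCycles p ∧
        (Dual3.idealMul (I ^ n)).map π ≫ ψ = g ≫ ((Dual3.deligne I (n - c)).obj F).homologyπ p := by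
    intro n
    by_cases hn : c ≤ n
    swap
    · exact ⟨0, fun h => absurd h hn⟩
    let K := (Dual3.deligne I (n - c)).obj F
    obtain ⟨e, he⟩ := exists_le (I ^ (n - c)) (I ^ n) (pow_le_pow I (by omega)) (hF p).1
    let w : (Dual3.idealMul (I ^ n)).obj Z ⟶ K.X p := (Dual3.idealMul (I ^ n)).map (F.iCycles p) ≫ e
    have hw : w ≫ Dual3.idealMulι (I ^ (n - c)) (F.X p) = Dual3.idealMulι (I ^ n) Z ≫ F.iCycles p := by
      simp only [w, Category.assoc, he, Dual3.idealMul_map_ι]
    have hwd : w ≫ K.d p (p + 1) = 0 := by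
      rw [← cancel_mono (Dual3.idealMulι (I ^ (n - c)) (F.X (p + 1))), Category.assoc, zero_comp]
      change w ≫ (Dual3.idealMul (I ^ (n - c))).map (F.d p (p + 1)) ≫ _ = 0
      rw [Dual3.idealMul_map_ι, reassoc_of% hw, HomologicalComplex.iCycles_d, comp_zero]
    let g := K.liftCycles w (p + 1) (by simp) hwd
    have hg : g ≫ K.iCycles p = w := K.liftCycles_i _ _ _ _
    haveI := epi_idealMul_map (I ^ n) π
    let M := (Dual3.idealMul (I ^ n)).map π
    let k := kernel.ι M
    have hk : (k ≫ Dual3.idealMulι (I ^ n) Z) ≫ π = 0 := by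
      rw [Category.assoc, ← Dual3.idealMul_map_ι, ← Category.assoc, kernel.condition, zero_comp]
    let kB : kernel M ⟶ B := kernel.lift π (k ≫ Dual3.idealMulι (I ^ n) Z) hk
    obtain ⟨l, hl⟩ := hc₂ n (by omega) _ kB (k ≫ (Dual3.idealMul (I ^ n)).map (F.iCycles p)) (by
      rw [kernel.lift_ι_assoc, Category.assoc, Category.assoc, Dual3.idealMul_map_ι])
    obtain ⟨e₂, he₂⟩ := exists_le (I ^ (n - c)) (I ^ (n - c₂)) (pow_le_pow I (by omega)) hB
    haveI := epi_idealMul_map (I ^ (n - c)) q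
    let u₁ := pullback.fst (l ≫ e₂) ((Dual3.idealMul (I ^ (n - c))).map q)
    let u₂ : pullback (l ≫ e₂) ((Dual3.idealMul (I ^ (n - c))).map q) ⟶ K.X (p - 1) :=
      pullback.snd (l ≫ e₂) ((Dual3.idealMul (I ^ (n - c))).map q)
    have hu : u₁ ≫ k ≫ g = u₂ ≫ K.toCycles (p - 1) p := by
      rw [← cancel_mono (K.iCycles p), Category.assoc, Category.assoc, Category.assoc, hg,
        HomologicalComplex.toCycles_i]
      refine (cancel_mono (Dual3.idealMulι (I ^ (n - c)) (F.X p))).1 ?_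
      change (u₁ ≫ k ≫ w) ≫ _ = (u₂ ≫ (Dual3.idealMul (I ^ (n - c))).map (F.d (p - 1) p)) ≫ _
      refine (Category.assoc _ _ _).trans ?_
      rw [Category.assoc, hw, Category.assoc, Dual3.idealMul_map_ι]
      have h1 := pullback.condition (f := l ≫ e₂) (g := (Dual3.idealMul (I ^ (n - c))).map q)
      have h2 := congrArg (· ≫ Dual3.idealMulι (I ^ (n - c)) B ≫ kernel.ι π ≫ F.iCycles p) h1
      simp only [Category.assoc, reassoc_of% he₂, reassoc_of% hl, Dual3.idealMul_map_ι_assoc] at h2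
      simp only [kB, q, kernel.lift_ι_assoc, Category.assoc, HomologicalComplex.toCycles_i] at h2
      exact h2
    have hkg : k ≫ g ≫ K.homologyπ p = 0 := by
      rw [← cancel_epi u₁, comp_zero, reassoc_of% hu, HomologicalComplex.toCycles_comp_homologyπ, comp_zero]
    exact ⟨Abelian.epiDesc M (g ≫ K.homologyπ p) hkg, fun _ => ⟨g, (reassoc_of% hg) _ |>.trans hw,
      Abelian.comp_epiDesc M _ hkg⟩⟩
  choose ψ hψ using hψ
  have hψι : ∀ n : ℕ, c ≤ n → ψ n ≫ HomologicalComplex.homologyMap (Dual3.deligneι I (n - c) F) p =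
      Dual3.idealMulι (I ^ n) H := fun n hn => by
    obtain ⟨g, hg, hgψ⟩ := hψ n hn
    haveI := epi_idealMul_map (I ^ n) π
    rw [← cancel_epi ((Dual3.idealMul (I ^ n)).map π), reassoc_of% hgψ, HomologicalComplex.homologyπ_naturality,
      Dual3.idealMul_map_ι, ← Category.assoc]
    congr 1
    rw [← cancel_mono (F.iCycles p), Category.assoc, HomologicalComplex.cyclesMap_i]
    exact hg
  refine ⟨c, φ, ψ, by omega, hφ, hψι, fun n hn => ?_, fun n hn t ht => ?_⟩
  · rw [Category.assoc, hφ (n - c) (by omega), hψι n (by omega)]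
  · obtain ⟨g, hg, hgψ⟩ := hψ (n - c) (by omega)
    let Zn := ((Dual3.deligne I n).obj F).cycles p
    obtain ⟨l, hl⟩ := hc₁ n (by omega) Zn (HomologicalComplex.cyclesMap (Dual3.deligneι I n F) p)
      (((Dual3.deligne I n).obj F).iCycles p) (HomologicalComplex.cyclesMap_i _ _)
    obtain ⟨e, he⟩ := exists_le (I ^ (n - c)) (I ^ (n - c₁)) (pow_le_pow I (by omega)) hZ
    have hv : ((Dual3.deligne I n).obj F).homologyπ p ≫ φ n = (l ≫ e) ≫ (Dual3.idealMul (I ^ (n - c))).map π := by
      rw [← cancel_mono (Dual3.idealMulι (I ^ (n - c)) H), Category.assoc, hφ n (by omega),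
        HomologicalComplex.homologyπ_naturality, Category.assoc, Dual3.idealMul_map_ι, Category.assoc,
        reassoc_of% he, reassoc_of% hl]
    rw [← cancel_epi (((Dual3.deligne I n).obj F).homologyπ p), reassoc_of% hv, hgψ,
      HomologicalComplex.homologyπ_naturality, ← Category.assoc, ← Category.assoc]
    congr 1
    rw [← cancel_mono (((Dual3.deligne I (n - c - c)).obj F).iCycles p), HomologicalComplex.cyclesMap_i,
      ← cancel_mono (Dual3.idealMulι (I ^ (n - c - c)) (F.X p))]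
    have ht' : t.f p ≫ Dual3.idealMulι (I ^ (n - c - c)) (F.X p) = Dual3.idealMulι (I ^ n) (F.X p) :=
      congrArg (fun s : (Dual3.deligne I n).obj F ⟶ F => s.f p) ht
    simp only [Category.assoc]
    rw [hg, ht', reassoc_of% he, reassoc_of% hl, HomologicalComplex.cyclesMap_i]
    rfl

end GrothLib.DeligneLift22.AR
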