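import Groth.Agent.Lib.IdealMul9.Ops
import Groth.Agent.Lib.QCoh.Abelian
import Groth.Prelude.Def_DCoh3
import Groth.Prelude.Def_Dual3

/-!
# Maps on an open subscheme extend to a power of the ideal of its complement
-/

set_option autoImplicit false
set_option maxHeartbeats 400000
set_option linter.style.haveILetI false
set_option backward.isDefEq.respectTransparency false

universe u

open CategoryTheory CategoryTheory.Limits AlgebraicGeometry

noncomputable section

namespace GrothLib.DeligneLift22

open IdealMul9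

variable {U X : Scheme.{u}} (j : U ⟶ X) [IsOpenImmersion j]

/-- Restriction along an isomorphism is an equivalence. -/
theorem isEquivalence_restrict_iso {A B : Scheme.{u}} (e : A ≅ B) :
    (Scheme.Modules.restrictFunctor e.hom).IsEquivalence :=
  (CategoryTheory.Equivalence.mk (Scheme.Modules.restrictFunctor e.hom) (Scheme.Modules.restrictFunctor e.inv)
    (Scheme.Modules.restrictFunctorId.symm ≪≫ Scheme.Modules.restrictFunctorCongr e.inv_hom_id.symm ≪≫
      Scheme.Modules.restrictFunctorComp _ _)
    ((Scheme.Modules.restrictFunctorComp _ _).symm ≪≫ Scheme.Modules.restrictFunctorCongr e.hom_inv_id ≪≫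
      Scheme.Modules.restrictFunctorId)).isEquivalence_functor

/-- Restriction along `j` through the range of `j`. -/
def viaRange : Scheme.Modules.restrictFunctor j ≅
    Scheme.Modules.restrictFunctor j.opensRange.ι ⋙ Scheme.Modules.restrictFunctor j.isoOpensRange.hom :=
  Scheme.Modules.restrictFunctorCongr (Scheme.Hom.isoOpensRange_hom_ι j).symm ≪≫
    Scheme.Modules.restrictFunctorComp _ _

variable [AlgebraicGeometry.IsNoetherian X] (I : X.IdealSheafData) (hI : I.supportSetᶜ = Set.range j)

include hI

omit [AlgebraicGeometry.IsNoetherian X] in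
theorem opensRange_eq : (j.opensRange : Set X) = (I.support : Set X)ᶜ := by
  rw [Scheme.Hom.coe_opensRange]; exact hI.symm

/-- Maps on the open subscheme extend to a power of the ideal. -/
theorem exists_lift {F G : X.Modules} (hF : F.IsQuasicoherent) (hG : Coh.IsCoh G)
    (φ : (Scheme.Modules.restrictFunctor j).obj G ⟶ (Scheme.Modules.restrictFunctor j).obj F) :
    ∃ (n : ℕ) (ψ : (Dual3.idealMul (I ^ n)).obj G ⟶ F),
      (Scheme.Modules.restrictFunctor j).map ψ =
        (Scheme.Modules.restrictFunctor j).map (Dual3.idealMulι (I ^ n) G) ≫ φ := by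
  haveI := isEquivalence_restrict_iso j.isoOpensRange
  let η := viaRange j
  obtain ⟨n, ψ, h⟩ := exists_lift_pow hF hG I j.opensRange (opensRange_eq j I hI)
    ((Scheme.Modules.restrictFunctor j.isoOpensRange.hom).preimage (η.inv.app G ≫ φ ≫ η.hom.app F))
  refine ⟨n, ψ, ?_⟩
  have h' := congrArg (Scheme.Modules.restrictFunctor j.isoOpensRange.hom).map h
  rw [Functor.map_comp, Functor.map_preimage] at h'
  rw [← cancel_mono (η.hom.app F), η.hom.naturality, Functor.comp_map, h', Category.assoc,
    ← Functor.comp_map, ← η.hom.naturality_assoc, Iso.hom_inv_id_app_assoc]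

/-- A map vanishing on the open subscheme kills a power of the ideal. -/
theorem exists_kill {F G : X.Modules} (hF : F.IsQuasicoherent) (hG : Coh.IsCoh G) (n : ℕ)
    (ψ : (Dual3.idealMul (I ^ n)).obj G ⟶ F) (hψ : (Scheme.Modules.restrictFunctor j).map ψ = 0) :
    ∃ (N : ℕ) (ι : (Dual3.idealMul (I ^ N)).obj G ⟶ (Dual3.idealMul (I ^ n)).obj G),
      ι ≫ Dual3.idealMulι (I ^ n) G = Dual3.idealMulι (I ^ N) G ∧ ι ≫ ψ = 0 := by
  haveI := isEquivalence_restrict_iso j.isoOpensRange
  refine exists_pow_restrict_eq_zero hF hG I j.opensRange (opensRange_eq j I hI) n ψ ?_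
  apply (Scheme.Modules.restrictFunctor j.isoOpensRange.hom).map_injective
  rw [Functor.map_zero, ← Functor.comp_map, ← cancel_epi ((viaRange j).hom.app _), ← NatTrans.naturality, hψ]
  simp

omit [IsOpenImmersion j] [AlgebraicGeometry.IsNoetherian X] hI in
/-- `I^(N+n) F ⊆ I^N (I^n F)`. -/
theorem exists_iterate [AlgebraicGeometry.IsNoetherian X] {F : X.Modules} (hF : Coh.IsCoh F) (N n : ℕ) :
    ∃ l : (Dual3.idealMul (I ^ (N + n))).obj F ⟶ (Dual3.idealMul (I ^ N)).obj ((Dual3.idealMul (I ^ n)).obj F),
      l ≫ Dual3.idealMulι (I ^ N) ((Dual3.idealMul (I ^ n)).obj F) ≫ Dual3.idealMulι (I ^ n) F =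
        Dual3.idealMulι (I ^ (N + n)) F := by
  have hG := isCoh_idealMul (I ^ n) hF
  refine exists_factor (isQuasicoherent_idealMul _ hF.1) (isQuasicoherent_idealMul _ hG.1) hF.1 _ _
    (fun V : X.affineOpens => V) (fun x => ?_) fun V m => ?_
  · obtain ⟨V, hV, hx, -⟩ := TopologicalSpace.Opens.isBasis_iff_nbhd.1 X.isBasis_affineOpens
      (TopologicalSpace.Opens.mem_top x)
    exact ⟨⟨V, hV⟩, hx⟩
  · have h1 := app_idealMulι_mem (I ^ (N + n)) hF.1 V m
    have hid : (I ^ (N + n)).ideal V = (I ^ N).ideal V * (I ^ n).ideal V := by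
      rw [Scheme.IdealSheafData.ideal_pow, Scheme.IdealSheafData.ideal_pow, Scheme.IdealSheafData.ideal_pow]
      exact pow_add (I.ideal V) N n
    rw [hid, Submodule.mul_smul, ← range_idealMulι (I ^ n) hF.1 V,
      ← Submodule.map_top, ← Submodule.map_smul'', ← range_idealMulι (I ^ N) hG.1 V, ← range_comp_app] at h1
    exact h1

end GrothLib.DeligneLift22
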