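import Groth.Agent.Lib.DeligneLift22.Degree
import Groth.Agent.Lib.HomRestrict20.Basic
import Groth.Agent.Lib.InjQCoh20.Embed
import Groth.Agent.Lib.QCoh.Extension
import Groth.Agent.Lib.QCoh.Abelian
import Groth.Agent.S11161

/-!
# `colim Hom(I^n F, L) = Hom(F|U, L|U)`
-/

set_option autoImplicit false
set_option maxHeartbeats 800000
set_option linter.style.haveILetI false
set_option backward.isDefEq.respectTransparency false

universe u

open CategoryTheory CategoryTheory.Limits AlgebraicGeometry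

attribute [local instance] HasDerivedCategory.standard

noncomputable section

namespace GrothLib.DeligneLift22

open IdealMul9

variable {U X : Scheme.{u}} (j : U ⟶ X) [IsOpenImmersion j] [AlgebraicGeometry.IsNoetherian X]
  (I : X.IdealSheafData) (F : CochainComplex X.Modules ℤ) (hF : ∀ q, Coh.IsCoh (F.X q))

/-- A bounded below object with quasi-coherent cohomology is a complex of quasi-coherent injective modules. -/
theorem exists_qcoh_injective_rep (L : DCoh.D X) (a : ℤ) [L.IsGE a] (hL : DCoh.IsQCohD L) :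
    ∃ K : CochainComplex X.Modules ℤ, K.IsStrictlyGE a ∧ (∀ n, (K.X n).IsQuasicoherent) ∧
      (∀ n, Injective (K.X n)) ∧ Nonempty (DerivedCategory.Q.obj K ≅ L) := by
  let P : ObjectProperty X.Modules := fun M => Coh.IsQCoh M
  have hess : ∀ {M : X.Modules}, M.IsQuasicoherent → P.ι.essImage M := fun {M} h =>
    ⟨⟨M, h⟩, ⟨Iso.refl _⟩⟩
  have hmem : ∀ {M : X.Modules}, P.ι.essImage M → M.IsQuasicoherent := fun {M} ⟨N, ⟨e⟩⟩ =>
    @GrothLib.QCoh.isQuasicoherent_of_iso _ _ _ e N.property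
  have hext : ∀ S : ShortComplex X.Modules, S.ShortExact → P.ι.essImage S.X₁ → P.ι.essImage S.X₃ →
      P.ι.essImage S.X₂ := fun S hS h₁ h₃ =>
    haveI := hmem h₁
    haveI := hmem h₃
    hess (GrothLib.QCoh.isQuasicoherent_X₂ hS)
  have hinj : ∀ X' : P.FullSubcategory, ∃ (Y' : P.FullSubcategory) (i : X' ⟶ Y'),
      Mono i ∧ Injective (P.ι.obj Y') := fun X' => by
    haveI : X'.obj.IsQuasicoherent := X'.property
    obtain ⟨J, i, hJ, hi, hm⟩ := GrothLib.InjQCoh20.exists_injective_embedding X'.obj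
    haveI := hm
    exact ⟨⟨J, hJ⟩, P.homMk i, P.ι.mono_of_mono_map (show Mono i from hm), hi⟩
  obtain ⟨K, hK, hKi, ⟨e⟩⟩ := Groth.Agent.S11161.result P.ι hext hinj L a (fun i => hess (hL i))
  haveI := hK
  exact ⟨(P.ι.mapHomologicalComplex (ComplexShape.up ℤ)).obj K, inferInstance, fun n => (K.X n).property, hKi,
    ⟨((P.ι.mapDerivedCategoryFactors).app K).symm ≪≫ e⟩⟩

include hF

omit [IsOpenImmersion j] in
/-- The transition maps of the Deligne system. -/
theorem exists_trans {n m : ℕ} (h : n ≤ m) :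
    ∃ t : (Dual3.deligne I m).obj F ⟶ (Dual3.deligne I n).obj F,
      t ≫ Dual3.deligneι I n F = Dual3.deligneι I m F := by
  choose l hl using fun q => exists_le (I ^ n) (I ^ m) (pow_le_pow I h) (hF q).1
  refine ⟨{ f := l, comm' := fun p q _ => ?_ }, HomologicalComplex.hom_ext _ _ hl⟩
  rw [← cancel_mono (Dual3.idealMulι (I ^ n) (F.X q))]
  change (l p ≫ (Dual3.idealMul (I ^ n)).map (F.d p q)) ≫ _ = ((Dual3.idealMul (I ^ m)).map (F.d p q) ≫ l q) ≫ _
  rw [Category.assoc, Category.assoc, Dual3.idealMul_map_ι, hl q, Dual3.idealMul_map_ι, ← Category.assoc, hl p]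

omit [IsOpenImmersion j] hF in
theorem trans_ext {n m : ℕ} {t t' : (Dual3.deligne I m).obj F ⟶ (Dual3.deligne I n).obj F}
    (h : t ≫ Dual3.deligneι I n F = t' ≫ Dual3.deligneι I n F) : t = t' :=
  HomologicalComplex.hom_ext _ _ fun q => by
    have hq := congrArg (fun g : (Dual3.deligne I m).obj F ⟶ F => g.f q) h
    exact (cancel_mono (Dual3.idealMulι (I ^ n) (F.X q))).1 hq

variable {lo hi : ℤ} (hFb : DCoh.VanishesOutside F lo hi) (hI : I.supportSetᶜ = Set.range j)
  (K : CochainComplex X.Modules ℤ) (hK : ∀ n, (K.X n).IsQuasicoherent)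

include hFb

omit [IsOpenImmersion j] [AlgebraicGeometry.IsNoetherian X] hF in
theorem isZero_deligne (n : ℕ) (q : ℤ) (hq : q ∉ Finset.Icc lo hi) : IsZero (((Dual3.deligne I n).obj F).X q) :=
  Functor.map_isZero (Dual3.idealMul (I ^ n)) (hFb q (by rw [Finset.mem_Icc] at hq; omega))

include hI hK

/-- A degreewise statement: maps of the terms vanishing on the open die in a later stage. -/
theorem exists_kill_all (n : ℕ) {p : ℤ → ℤ} (d : ∀ q : ℤ, ((Dual3.deligne I n).obj F).X q ⟶ K.X (p q))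
    (hd : ∀ q, (Scheme.Modules.restrictFunctor j).map (d q) = 0) :
    ∃ (m : ℕ) (_ : n ≤ m) (t : (Dual3.deligne I m).obj F ⟶ (Dual3.deligne I n).obj F),
      t ≫ Dual3.deligneι I n F = Dual3.deligneι I m F ∧ ∀ q, t.f q ≫ d q = 0 := by
  choose N ι hι hι' using fun q => exists_kill j I hI (hK (p q)) (hF q) n (d q) (hd q)
  let m := max n ((Finset.Icc lo hi).sup N)
  obtain ⟨t, ht⟩ := exists_trans I F hF (show n ≤ m from le_max_left _ _)
  refine ⟨m, le_max_left _ _, t, ht, fun q => ?_⟩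
  by_cases hq : q ∈ Finset.Icc lo hi
  · obtain ⟨l, hl⟩ := exists_le (I ^ N q) (I ^ m)
      (pow_le_pow I ((Finset.le_sup (f := N) hq).trans (le_max_right _ _))) (hF q).1
    have ht' : t.f q = l ≫ ι q := by
      rw [← cancel_mono (Dual3.idealMulι (I ^ n) (F.X q)), Category.assoc, hι q, hl]
      exact congrArg (fun g : (Dual3.deligne I m).obj F ⟶ F => g.f q) ht
    rw [ht']
    exact (Category.assoc _ _ _).trans (by rw [hι' q, comp_zero])
  · exact (isZero_deligne I F hFb m q hq).eq_of_src _ _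

/-- Surjectivity on complexes. -/
theorem exists_chainMap (a : ((Scheme.Modules.restrictFunctor j).mapHomologicalComplex (ComplexShape.up ℤ)).obj F ⟶
      ((Scheme.Modules.restrictFunctor j).mapHomologicalComplex (ComplexShape.up ℤ)).obj K) :
    ∃ (n : ℕ) (ψ : (Dual3.deligne I n).obj F ⟶ K),
      ((Scheme.Modules.restrictFunctor j).mapHomologicalComplex (ComplexShape.up ℤ)).map ψ =
        ((Scheme.Modules.restrictFunctor j).mapHomologicalComplex (ComplexShape.up ℤ)).map (Dual3.deligneι I n F) ≫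
          a := by
  let R := Scheme.Modules.restrictFunctor j
  have h : ∀ q, ∃ k : ℕ, ∃ ψ : (Dual3.idealMul (I ^ k)).obj (F.X q) ⟶ K.X q,
      R.map ψ = R.map (Dual3.idealMulι (I ^ k) (F.X q)) ≫ a.f q := fun q =>
    exists_lift j I hI (hK q) (hF q) (a.f q)
  choose k ψ hψ using h
  let N := (Finset.Icc lo hi).sup k
  have h' : ∀ q, ∃ ψ' : ((Dual3.deligne I N).obj F).X q ⟶ K.X q,
      R.map ψ' = R.map (Dual3.idealMulι (I ^ N) (F.X q)) ≫ a.f q := fun q => by
    by_cases hq : q ∈ Finset.Icc lo hi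
    · obtain ⟨l, hl⟩ := exists_le (I ^ k q) (I ^ N) (pow_le_pow I (Finset.le_sup (f := k) hq)) (hF q).1
      exact ⟨l ≫ ψ q, by rw [R.map_comp, hψ q, ← R.map_comp_assoc, hl]⟩
    · exact ⟨0, (R.map_isZero (isZero_deligne I F hFb N q hq)).eq_of_src _ _⟩
  choose ψ' hψ' using h'
  let δ : ∀ q, ((Dual3.deligne I N).obj F).X q ⟶ K.X (q + 1) := fun q =>
    ψ' q ≫ K.d q (q + 1) - ((Dual3.deligne I N).obj F).d q (q + 1) ≫ ψ' (q + 1)
  have hδ : ∀ q, R.map (δ q) = 0 := fun q => by
    have e1 : a.f q ≫ R.map (K.d q (q + 1)) = R.map (F.d q (q + 1)) ≫ a.f (q + 1) := a.comm q (q + 1)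
    have e2 : ((Dual3.deligne I N).obj F).d q (q + 1) ≫ Dual3.idealMulι (I ^ N) (F.X (q + 1)) =
        Dual3.idealMulι (I ^ N) (F.X q) ≫ F.d q (q + 1) := Dual3.idealMul_map_ι _ _
    rw [R.map_sub, R.map_comp, R.map_comp, hψ' q, hψ' (q + 1), Category.assoc, e1, ← R.map_comp_assoc,
      ← R.map_comp_assoc, e2, sub_self]
  obtain ⟨m, -, t, ht, htδ⟩ := exists_kill_all j I F hF hFb hI K hK N δ hδ
  refine ⟨m, { f := fun q => t.f q ≫ ψ' q, comm' := fun p q hpq => ?_ }, ?_⟩
  · obtain rfl : p + 1 = q := hpq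
    have h0 := htδ p
    rw [Preadditive.comp_sub, sub_eq_zero, ← Category.assoc, ← Category.assoc, t.comm] at h0
    rw [h0, Category.assoc]
  · refine HomologicalComplex.hom_ext _ _ fun q => ?_
    change R.map (t.f q ≫ ψ' q) = R.map (Dual3.idealMulι (I ^ m) (F.X q)) ≫ a.f q
    have e : t.f q ≫ Dual3.idealMulι (I ^ N) (F.X q) = Dual3.idealMulι (I ^ m) (F.X q) :=
      congrArg (fun g : (Dual3.deligne I m).obj F ⟶ F => g.f q) ht
    rw [R.map_comp, hψ' q, ← R.map_comp_assoc, e]

/-- Injectivity on complexes. -/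
theorem exists_homotopy (n : ℕ) (a b : (Dual3.deligne I n).obj F ⟶ K)
    (h : Homotopy (((Scheme.Modules.restrictFunctor j).mapHomologicalComplex (ComplexShape.up ℤ)).map a)
      (((Scheme.Modules.restrictFunctor j).mapHomologicalComplex (ComplexShape.up ℤ)).map b)) :
    ∃ (m : ℕ) (_ : n ≤ m) (t : (Dual3.deligne I m).obj F ⟶ (Dual3.deligne I n).obj F),
      t ≫ Dual3.deligneι I n F = Dual3.deligneι I m F ∧ Nonempty (Homotopy (t ≫ a) (t ≫ b)) := by
  let R := Scheme.Modules.restrictFunctor j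
  have hl : ∀ q, ∃ k : ℕ, ∃ e : (Dual3.idealMul (I ^ k)).obj (((Dual3.deligne I n).obj F).X q) ⟶ K.X (q - 1),
      R.map e = R.map (Dual3.idealMulι (I ^ k) _) ≫ h.hom q (q - 1) := fun q =>
    exists_lift j I hI (hK (q - 1)) (isCoh_idealMul _ (hF q)) (h.hom q (q - 1))
  choose k e he using hl
  let M := (Finset.Icc lo hi).sup k + n
  obtain ⟨t, ht⟩ := exists_trans I F hF (show n ≤ M from Nat.le_add_left _ _)
  have htq : ∀ q, t.f q ≫ Dual3.idealMulι (I ^ n) (F.X q) = Dual3.idealMulι (I ^ M) (F.X q) := fun q =>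
    congrArg (fun g : (Dual3.deligne I M).obj F ⟶ F => g.f q) ht
  have he' : ∀ p q : ℤ, ∃ e' : ((Dual3.deligne I M).obj F).X p ⟶ K.X q,
      R.map e' = R.map (t.f p) ≫ (h.hom p q : R.obj _ ⟶ R.obj (K.X q)) := fun p q => by
    by_cases hr : (ComplexShape.up ℤ).Rel q p
    · obtain rfl : q = p - 1 := by change q + 1 = p at hr; omega
      by_cases hp : p ∈ Finset.Icc lo hi
      · obtain ⟨l₁, hl₁⟩ := exists_le (I ^ (k p + n)) (I ^ M)
          (pow_le_pow I (Nat.add_le_add_right (Finset.le_sup (f := k) hp) n)) (hF p).1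
        obtain ⟨l₂, hl₂⟩ := exists_iterate I (hF p) (k p) n
        have hh : (l₁ ≫ l₂) ≫ Dual3.idealMulι (I ^ k p) (((Dual3.deligne I n).obj F).X p) = t.f p := by
          rw [← cancel_mono (Dual3.idealMulι (I ^ n) (F.X p))]
          refine (Category.assoc _ _ _).trans ?_
          refine (Category.assoc _ _ _).trans ?_
          exact ((congrArg (l₁ ≫ ·) hl₂).trans hl₁).trans (htq p).symm
        exact ⟨(l₁ ≫ l₂) ≫ e p, by rw [R.map_comp, he p, ← R.map_comp_assoc, hh]⟩
      · exact ⟨0, (R.map_isZero (isZero_deligne I F hFb M p hp)).eq_of_src _ _⟩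
    · exact ⟨0, by rw [h.zero _ _ hr, comp_zero, R.map_zero]⟩
  choose e' he' using he'
  let c : ∀ p q : ℤ, ((Dual3.deligne I M).obj F).X p ⟶ K.X q := fun p q =>
    if (ComplexShape.up ℤ).Rel q p then e' p q else 0
  have hc : ∀ p q : ℤ, (ComplexShape.up ℤ).Rel q p → c p q = e' p q := fun p q hr => if_pos hr
  let δ : ∀ q : ℤ, ((Dual3.deligne I M).obj F).X q ⟶ K.X (id q) := fun q =>
    (t ≫ a).f q - (((Dual3.deligne I M).obj F).d q (q + 1) ≫ e' (q + 1) q + e' q (q - 1) ≫ K.d (q - 1) q +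
      (t ≫ b).f q)
  have hδ : ∀ q, R.map (δ q) = 0 := fun q => by
    have hr₁ : (ComplexShape.up ℤ).Rel q (q + 1) := rfl
    have hr₂ : (ComplexShape.up ℤ).Rel (q - 1) q := by simp
    have e1 := h.comm q
    rw [dNext_eq h.hom hr₁, prevD_eq h.hom hr₂] at e1
    let hh : ∀ p q : ℤ, R.obj (((Dual3.deligne I n).obj F).X p) ⟶ R.obj (K.X q) := h.hom
    replace e1 : R.map (a.f q) = R.map (((Dual3.deligne I n).obj F).d q (q + 1)) ≫ hh (q + 1) q +
        hh q (q - 1) ≫ R.map (K.d (q - 1) q) + R.map (b.f q) := e1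
    have e2 := t.comm q (q + 1)
    rw [R.map_sub, R.map_add, R.map_add, R.map_comp, R.map_comp, HomologicalComplex.comp_f, R.map_comp, e1,
      HomologicalComplex.comp_f, R.map_comp, he' (q + 1) q, he' q (q - 1), ← R.map_comp_assoc, ← e2,
      R.map_comp, Preadditive.comp_add, Preadditive.comp_add, Category.assoc, Category.assoc]
    exact sub_self _
  obtain ⟨m, hm, t', ht', htδ⟩ := exists_kill_all j I F hF hFb hI K hK M δ hδ
  refine ⟨m, (Nat.le_add_left n _).trans hm, t' ≫ t, by rw [Category.assoc, ht, ht'], ⟨?_⟩⟩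
  refine { hom := fun p q => t'.f p ≫ c p q, zero := fun p q hr => ?_, comm := fun q => ?_ }
  · rw [show c p q = 0 from if_neg hr, comp_zero]
  · have hr₁ : (ComplexShape.up ℤ).Rel q (q + 1) := rfl
    have hr₂ : (ComplexShape.up ℤ).Rel (q - 1) q := by simp
    have h0 := htδ q
    rw [Preadditive.comp_sub, sub_eq_zero, Preadditive.comp_add, Preadditive.comp_add] at h0
    rw [dNext_eq _ hr₁, prevD_eq _ hr₂, hc _ _ hr₁, hc _ _ hr₂]
    dsimp at h0 ⊢
    simp only [Category.assoc] at h0 ⊢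
    rw [h0, t'.comm_assoc]

/-- **Deligne's lifting lemma.** -/
theorem result {c₀ : ℤ} [PreservesFiniteLimits (Scheme.Modules.restrictFunctor j)] [K.IsStrictlyGE c₀]
    (hKi : ∀ n, Injective (K.X n)) (L : DCoh.D X) (eK : DerivedCategory.Q.obj K ≅ L) :
    (∀ α : (DCoh.restrictD j).obj (DerivedCategory.Q.obj F) ⟶ (DCoh.restrictD j).obj L,
      ∃ (n : ℕ) (φ : DerivedCategory.Q.obj ((Dual3.deligne I n).obj F) ⟶ L),
        (DCoh.restrictD j).map (DerivedCategory.Q.map (Dual3.deligneι I n F)) ≫ α = (DCoh.restrictD j).map φ) ∧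
    ∀ (n : ℕ) (φ ψ : DerivedCategory.Q.obj ((Dual3.deligne I n).obj F) ⟶ L),
      (DCoh.restrictD j).map φ = (DCoh.restrictD j).map ψ →
      ∃ m : ℕ, n ≤ m ∧ ∀ t : (Dual3.deligne I m).obj F ⟶ (Dual3.deligne I n).obj F,
        t ≫ Dual3.deligneι I n F = Dual3.deligneι I m F →
        DerivedCategory.Q.map t ≫ φ = DerivedCategory.Q.map t ≫ ψ := by
  let R := Scheme.Modules.restrictFunctor j
  let RC := R.mapHomologicalComplex (ComplexShape.up ℤ)
  haveI : CochainComplex.IsStrictlyGE (RC.obj K) c₀ := inferInstance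
  haveI : ∀ q, Injective ((RC.obj K).X q) := fun q => HomRestrict20.injective_restrictFunctor j _ (hKi q)
  haveI := CochainComplex.isKInjective_of_injective (RC.obj K) c₀
  haveI := hKi
  haveI := CochainComplex.isKInjective_of_injective K c₀
  let η := R.mapDerivedCategoryFactors
  have hsurj : ∀ {C : Type (u + 1)} [Category.{u} C] [Abelian C] [HasDerivedCategory C]
      (A B : CochainComplex C ℤ) [B.IsKInjective] (f : DerivedCategory.Q.obj A ⟶ DerivedCategory.Q.obj B),
      ∃ g : A ⟶ B, DerivedCategory.Q.map g = f := fun {C} _ _ _ A B _ f => by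
    obtain ⟨g, hg⟩ := (CochainComplex.IsKInjective.Qh_map_bijective _ B).2
      ((DerivedCategory.quotientCompQhIso C).hom.app A ≫ f ≫ (DerivedCategory.quotientCompQhIso C).inv.app B)
    obtain ⟨g, rfl⟩ := (HomotopyCategory.quotient C (ComplexShape.up ℤ)).map_surjective g
    refine ⟨g, ?_⟩
    rw [← cancel_epi ((DerivedCategory.quotientCompQhIso C).hom.app A),
      ← (DerivedCategory.quotientCompQhIso C).hom.naturality, Functor.comp_map, hg]
    simp
  constructor
  · intro α
    obtain ⟨a, ha⟩ := hsurj (RC.obj F) (RC.obj K)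
      (η.inv.app F ≫ α ≫ (DCoh.restrictD j).map eK.inv ≫ η.hom.app K)
    obtain ⟨n, ψ, hψ⟩ := exists_chainMap j I F hF hFb hI K hK a
    refine ⟨n, DerivedCategory.Q.map ψ ≫ eK.hom, ?_⟩
    have e1 : DerivedCategory.Q.map (RC.map ψ) = DerivedCategory.Q.map (RC.map (Dual3.deligneι I n F)) ≫
        DerivedCategory.Q.map a := by rw [hψ, Functor.map_comp]
    have e2 := η.hom.naturality ψ
    have e3 := η.hom.naturality (Dual3.deligneι I n F)
    dsimp at e2 e3
    rw [← cancel_mono ((DCoh.restrictD j).map eK.inv ≫ η.hom.app K)]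
    simp only [Functor.map_comp, Category.assoc]
    rw [Iso.map_hom_inv_id_assoc, e2, e1, ha, ← reassoc_of% e3]
    simp only [Iso.hom_inv_id_app_assoc]
    rfl
  · intro n φ ψ hφψ
    obtain ⟨a, ha⟩ := hsurj _ K (φ ≫ eK.inv)
    obtain ⟨b, hb⟩ := hsurj _ K (ψ ≫ eK.inv)
    have e : DerivedCategory.Q.map (RC.map a) = DerivedCategory.Q.map (RC.map b) := by
      have ea := η.hom.naturality a
      have eb := η.hom.naturality b
      dsimp at ea eb
      rw [← cancel_epi (η.hom.app _), ← ea, ← eb, ha, hb, Functor.map_comp, Functor.map_comp, hφψ]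
    have e' : (HomotopyCategory.quotient _ (ComplexShape.up ℤ)).map (RC.map a) =
        (HomotopyCategory.quotient _ (ComplexShape.up ℤ)).map (RC.map b) := by
      refine (CochainComplex.IsKInjective.Qh_map_bijective _ (RC.obj K)).1 ?_
      have q := DerivedCategory.quotientCompQhIso U.Modules
      rw [← cancel_mono (q.hom.app _)]
      exact (q.hom.naturality (RC.map a)).trans ((congrArg (q.hom.app _ ≫ ·) e).trans
        (q.hom.naturality (RC.map b)).symm)
    obtain ⟨m, hm, t, ht, ⟨H⟩⟩ := exists_homotopy j I F hF hFb hI K hK n a b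
      (HomotopyCategory.homotopyOfEq _ _ e')
    refine ⟨m, hm, fun t' ht' => ?_⟩
    obtain rfl : t' = t := trans_ext I F (ht'.trans ht.symm)
    rw [← cancel_mono eK.inv, Category.assoc, Category.assoc, ← ha, ← hb, ← Functor.map_comp, ← Functor.map_comp]
    exact DerivedCategory.Q_map_eq_of_homotopy (C := X.Modules) H

end GrothLib.DeligneLift22
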